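/-
Peterfalvi (9.9)(a), (c) and (9.10), reduced to (9.8) and the count of reducible characters.
-/
import Cfsg.Agent.Lib.PF.S09k

set_option autoImplicit false
set_option linter.unusedSectionVars false
set_option linter.unusedVariables false

open scoped ComplexConjugate ComplexOrder

namespace CA.PF

open Cfsg Subgroup CA CA.BG CA.Ch

universe u

variable {G : Type u} [Group G] [Finite G] [hG : Fact (IsMinSimpleOddOrder G)]
  {M U W W1 W2 H0 H1 X Y : Subgroup G} {p a : ℕ} {g x y : G}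

namespace Core9
variable (c : Core9 M U W W1 W2 H0 p)
include c

theorem comm_HC_H : ⁅𝐇(M) ⊔ cK M U H0, 𝐇(M)⁆ ≤ H0 :=
  (le_coq_cent_iff c.H_norm_H0 (c.norm_H0 c.HC_normalIn.le)).mp
    (sup_le ((le_coq_cent_iff c.H_norm_H0 c.H_norm_H0).mpr c.derH_le) inf_le_right)

theorem galois_ind (hg : PGalois M U H0) {θ : ↥𝐃(M) → ℂ} (hθ : θ ∈ xP M 𝐇(M) H0) :
    ∃ ξ, IsIrr ξ ∧ θ = ind (inclusion c.HC_le_der) ξ := by
  have h := c.typeP
  obtain ⟨t1, t2, t3⟩ := mem_xP.mp hθ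
  obtain ⟨F, _, _, f, ψ, -, f1, f2, f3, f4, -, f5, -⟩ := c.galois_field hg
  haveI := nEmb_of_normalIn (c.HC_normalIn.of_le c.HC_le_der (der_le M))
  haveI := (c.H0_normalIn.of_le (c.H0_le.trans h.H_le) (der_le M)).normal_subgroupOf
  haveI := ((Fcore_normalIn M).of_le h.H_le (der_le M)).normal_subgroupOf
  obtain ⟨ξ, x1, x2⟩ := t1.exists_res_constt (inclusion c.HC_le_der)
  rw [le_cfker_iff_constt _ t1 x1 x2 (inclusion_range c.HC_le_der ▸ subgroupOf_mono _ le_sup_left)] at t3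
  rw [le_cfker_iff_constt _ t1 x1 x2
    (inclusion_range c.HC_le_der ▸ subgroupOf_mono _ (c.H0_le.trans le_sup_left))] at t2
  obtain ⟨l, -, l1⟩ := x1.res_central (inclusion (le_sup_left : 𝐇(M) ≤ 𝐇(M) ⊔ cK M U H0)) fun d g =>
    t2 (c.comm_HC_H.trans' (commutator_comm_le _ _) (commutator_mem_commutator d.2 g.2))
  have l2 : ∀ z (a : z ∈ 𝐇(M)), ξ ⟨z, mem_sup_left a⟩ = ξ 1 * l ⟨z, a⟩ := fun z a => congrFun l1 ⟨z, a⟩
  refine ⟨ξ, x1, t1.eq_of_ip_ne (x1.ind_of_inertia _ fun g hg => ?_) (by rwa [ip_ind_right _ _ t1.isCF])⟩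
  obtain ⟨k, hk, y, hy, e⟩ := h.sdU.exists_mul g.2
  rw [inclusion_range, mem_subgroupOf, ← e]
  refine mul_mem_sup hk (by_contra fun hn => t3 fun z hz => ?_)
  replace hz : (z : G) ∈ 𝐇(M) := hz
  obtain ⟨x, hx, ex⟩ := f2 (f z / (ψ y - 1))
  have a1 := conj_mem_of_mem_normalizer (h.sdU.norm hy) hx
  have a2 : l ⟨_, a1⟩ = l ⟨x, hx⟩ := by
    have := congrFun hg ⟨x, mem_sup_left hx⟩
    rw [cfj_apply, show cAut (inclusion c.HC_le_der) g ⟨x, mem_sup_left hx⟩ =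
      ⟨k, mem_sup_left hk⟩ * ⟨_, mem_sup_left a1⟩ * ⟨k, mem_sup_left hk⟩⁻¹ from Subtype.ext
        ((congrArg Subtype.val (cAut_spec (inclusion c.HC_le_der) g ⟨x, mem_sup_left hx⟩)).trans (by
          simp only [coe_mul, coe_inv, coe_inclusion, ← e]; group)), x1.isCF.conj, l2 _ a1, l2 _ hx] at this
    exact Units.ext (mul_left_cancel₀ x1.ne_zero_one this)
  have a3 := mul_mem (mul_mem a1 (inv_mem hx)) (inv_mem hz)
  have a4 := (f3 _ a3).mp (by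
    rw [addf_div f1 (mul_mem a1 (inv_mem hx)) hz, addf_div f1 a1 hx, (f4 y hy).2 x hx, ex, ← sub_one_mul,
      mul_div_cancel₀ _ (sub_ne_zero.mpr fun d => hn ((f5 y hy).mp d)), sub_self])
  have a5 := x1.mem_cfker.mp (t2 (x := ⟨_, mem_sup_left a3⟩) a4)
  rw [l2 _ a3, show (⟨_, a3⟩ : 𝐇(M)) = ⟨_, a1⟩ * ⟨x, hx⟩⁻¹ * ⟨z, hz⟩⁻¹ from rfl, map_mul, map_mul, a2,
    map_inv, mul_inv_cancel, one_mul, map_inv, mul_eq_left₀ x1.ne_zero_one, Units.val_eq_one, inv_eq_one] at a5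
  rw [x1.mem_cfker, l2 z hz, a5, Units.val_one, mul_one]

theorem sum_sq_H0 (hX : X ≤ cK M U H0) (hn : U ⊔ W1 ≤ 𝐍(X)) : ∑ ζ ∈ sP M 𝐇(M) (H0 ⊔ X), ‖ζ 1‖ ^ 2 / nrm ζ =
    Nat.card W1 * (X.relIndex U * (p ^ Nat.card W1 - 1)) := by
  haveI := (c.H0_sup_normalIn hX hn).normal_subgroupOf
  have h := c.typeP
  have a0 := hX.trans c.C_le
  have a1 := h.relIndex_sup_sup c.H0_le le_rfl a0 le_rfl (c.norm_H0 (a0.trans h.U_le)) h.sdU.norm
  rw [h.sdU.sup_eq, c.index_H] at a1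
  rw [sInd.sum_sq, h.index_derI, comap_inclusion_subgroupOf, comap_inclusion_subgroupOf,
    ← subgroupOf_sup (c.H0_sup_le_der a0) h.H_le, sup_right_comm, sup_eq_right.mpr c.H0_le,
    show ((𝐇(M) ⊔ X).subgroupOf 𝐃(M)).index = _ from h.relIndex_H_sup a0,
    show ((H0 ⊔ X).subgroupOf 𝐃(M)).index = _ from a1, Nat.cast_mul, Nat.cast_pow]
  ring

open Classical in
/-- (9.9)(a), (c) -/
theorem galois_characters_of (h1 : ((sP M 𝐇(M) H0).filter fun ζ => ¬ IsIrr ζ).card = p - 1 ∧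
      ∀ ζ ∈ sP M 𝐇(M) H0, ¬ IsIrr ζ → IsIndHC M U W1 H0 ζ) (hg : PGalois M U H0) :
    (∀ θ ∈ xP M 𝐇(M) H0, ∃ n : ℕ, θ 1 = ((cK M U H0).relIndex U * n : ℕ)) ∧
    (∀ θ ∈ xP M 𝐇(M) (H0 ⊔ 𝐃(cK M U H0)), θ 1 = (cK M U H0).relIndex U ∧
      IndLin (𝐇(M) ⊔ cK M U H0) 𝐃(M) θ) ∧
    ((∀ ζ ∈ sP M 𝐇(M) (H0 ⊔ 𝐃(cK M U H0)), ¬ IsIrr ζ) →
      cK M U H0 = ⊥ ∧ (cK M U H0).relIndex U = (p ^ Nat.card W1 - 1) / (p - 1) ∧
      Frob (𝐃(M) /ₛ H0) (𝐇(M) /ₛ H0) (U /ₛ H0)) := by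
  have h := c.typeP
  refine ⟨fun θ a => ?_, fun θ a => ?_, fun hr => ?_⟩
  · obtain ⟨ξ, b, rfl⟩ := c.galois_ind hg a
    obtain ⟨n, -, e⟩ := b.nat
    exact ⟨n, by rw [ind_inclusion_one, c.index_HC, e, Nat.cast_mul]⟩
  · rw [mem_xP] at a
    obtain ⟨ξ, b, rfl⟩ := c.galois_ind hg (mem_xP.mpr ⟨a.1, (subgroupOf_mono _ le_sup_left).trans a.2.1, a.2.2⟩)
    haveI := (c.H0C'_normalIn.of_le (c.H0_sup_le_der ((der_le _).trans c.C_le)) (der_le M)).normal_subgroupOf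
    obtain ⟨l, rfl⟩ := b.exists_lin_of_commutator (((le_cfker_ind_iff _ b (inclusion_range c.HC_le_der ▸
      subgroupOf_mono _ (sup_le_sup c.H0_le (der_le _)))).mp a.2.1).trans' (by
        rw [comap_inclusion_subgroupOf, ← map_subtype_le_map_subtype, map_subtype_commutator,
          subgroupOf_map_subtype]
        exact le_inf c.der_HC_le (der_le _)))
    exact ⟨by rw [ind_inclusion_one, c.index_HC]; simp [lin_apply], c.HC_le_der, l, rfl⟩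
  obtain ⟨μ, δ, η, x⟩ := h.exists_pctx c.max
  have s1 : sP M 𝐇(M) (H0 ⊔ cK M U H0) ⊆ sP M 𝐇(M) (H0 ⊔ 𝐃(cK M U H0)) :=
    sP_mono le_rfl (sup_le_sup_left (der_le _) _)
  have s2 : sP M 𝐇(M) (H0 ⊔ 𝐃(cK M U H0)) ⊆ (sP M 𝐇(M) H0).filter fun ζ => ¬ IsIrr ζ := fun ζ a =>
    Finset.mem_filter.mpr ⟨sP_mono le_rfl le_sup_left a, hr ζ a⟩
  have s3 : ((sP M 𝐇(M) H0).filter fun ζ => ¬ IsIrr ζ) ⊆ sP M 𝐇(M) (H0 ⊔ cK M U H0) := fun ζ a =>
    (h1.2 ζ (Finset.mem_filter.mp a).1 (Finset.mem_filter.mp a).2).2.1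
  have a1 := c.sum_sq_H0 le_rfl c.norm_C
  have a2 := c.sum_sq_H0 (der_le _) (norms_der c.norm_C)
  have q0 : (0 : ℝ) < Nat.card W1 := by exact_mod_cast Nat.card_pos
  have p1 := Nat.one_lt_pow (Nat.card_pos (α := W1)).ne' c.prime.one_lt
  have p2 : (1 : ℝ) < p ^ Nat.card W1 := by exact_mod_cast p1
  rw [← s1.antisymm (s2.trans s3), a1, mul_right_inj' q0.ne', mul_left_inj' (sub_pos.mpr p2).ne',
    Nat.cast_inj] at a2
  have e1 : cK M U H0 = ⊥ := by_contra fun e =>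
    (der_lt_of_solvable (mFT_sol_of_le c.max (c.C_le.trans h.U_le)) e).ne
      (eq_of_relIndex_le (der_le _) c.C_le a2.ge)
  rw [(s1.trans s2).antisymm s3, Finset.sum_congr rfl
      (g := fun _ => (Nat.card W1 : ℝ) * (cK M U H0).relIndex U ^ 2) fun ζ z => by
      rw [Finset.mem_filter] at z
      rw [(h1.2 ζ z.1 z.2).1, Complex.norm_natCast, Nat.cast_mul]
      obtain ⟨j, -, -, rfl⟩ := ((x.pdade (Or.inr rfl)).sInd_cases z.1).resolve_left z.2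
      rw [x.ptd.nrm_red, x.card1]
      field_simp, Finset.sum_const, h1.1, nsmul_eq_mul] at a1
  have u0 : (0 : ℝ) < (cK M U H0).relIndex U := by exact_mod_cast relIndex_pos' _ _
  refine ⟨e1, (Nat.div_eq_of_eq_mul_right (by have := c.two_lt_p; omega) ?_).symm,
    h.sdU.quo (c.norm_H0 (der_le M)) (inf_le_left.trans c.H0_le), c.quo_ne, fun e => c.U_ne ?_, fun z a b => ?_⟩
  · have : ((p ^ Nat.card W1 - 1 : ℕ) : ℝ) = (p - 1 : ℕ) * (cK M U H0).relIndex U := by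
      rw [Nat.cast_sub p1.le]
      push_cast
      exact mul_left_cancel₀ (mul_pos q0 u0).ne' (by linarith)
    exact_mod_cast this
  · rw [quo_eq_bot_iff (c.norm_H0 h.U_le)] at e
    exact le_bot_iff.mp (h.H_inf_U.le.trans' (le_inf (e.trans c.H0_le) le_rfl))
  · obtain ⟨y, hy, rfl⟩ := (mem_quo (c.norm_H0 h.U_le)).mp a
    refine le_bot_iff.mp fun v ⟨d, e⟩ => ?_
    obtain ⟨s, hs, rfl⟩ := (mem_quo c.H_norm_H0).mp d
    have n1 := c.norm_H0 h.U_le hy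
    have n2 := c.H_norm_H0 hs
    refine qel_eq_one ((c.galois_facts hg).2.2.2 y hy (fun d => b (by
      rw [e1, mem_bot] at d; rw [d, qel_eq_one (one_mem _)])) s hs ?_)
    rw [mul_assoc, ← mul_inv_rev, ← qel_eq_iff' (mul_mem n1 n2) (mul_mem n2 n1), pel_mul _ n1 n2, pel_mul _ n2 n1]
    exact (mem_cent1_iff.mp e).symm

open Classical in
/-- (9.10) -/
theorem reducible_core_cases_of (h1 : ((sP M 𝐇(M) H0).filter fun ζ => ¬ IsIrr ζ).card = p - 1 ∧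
      ∀ ζ ∈ sP M 𝐇(M) H0, ¬ IsIrr ζ → IsIndHC M U W1 H0 ζ)
    (h2 : ∀ {H1 a}, NonGal M U W1 H0 H1 p a → ∃ ζ, IsIrr ζ ∧ IsIndHC M U W1 H0 ζ) :
    (∃ ζ, IsIrr ζ ∧ ζ ∈ sP M 𝐇(M) (H0 ⊔ 𝐃(cK M U H0)) ∧
      ζ 1 = (Nat.card W1 * (cK M U H0).relIndex U : ℕ) ∧ IndLin (𝐇(M) ⊔ cK M U H0) M ζ) ∨
    (PGalois M U H0 ∧ Frob (𝐃(M) /ₛ H0) (𝐇(M) /ₛ H0) (U /ₛ H0) ∧ IsCyclic U ∧
      Nat.card U = (p ^ Nat.card W1 - 1) / (p - 1) ∧ (ftType M = 2 → Frob 𝐃(M) 𝐇(M) U)) := by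
  have h := c.typeP
  by_cases hg : PGalois M U H0
  swap
  · obtain ⟨H1, a, hn⟩ := c.exists_nonGal hg
    obtain ⟨ζ, a1, a2, a3, a4⟩ := h2 hn
    exact Or.inl ⟨ζ, a1, sP_mono le_rfl (sup_le_sup_left (der_le _) _) a3, a2, a4⟩
  obtain ⟨-, b1, b2⟩ := c.galois_characters_of h1 hg
  refine or_iff_not_imp_left.mpr fun e => ?_
  obtain ⟨e1, e2, e3⟩ := b2 fun ζ a b => by
    obtain ⟨θ, d, rfl⟩ := mem_sP.mp a
    obtain ⟨d1, d2, l, rfl⟩ := b1 θ d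
    exact e ⟨_, b, a, by rw [ind_one, h.index_derI, d1, Nat.cast_mul], _, l, ind_inclusion_inclusion _ _ _⟩
  have cy := (c.galois_facts hg).1
  rw [e1] at cy e2
  have cy' := isCyclic_of_quo_bot cy
  refine ⟨hg, e3, cy', by rwa [relIndex_bot_left] at e2, fun t => ?_⟩
  obtain ⟨-, -, t1, t2⟩ := h.typeII c.max t
  exact t2 ▸ (t1.frob_iff (mFT_odd _)).mpr inferInstance

end Core9

end CA.PF
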